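import Mathlib
import Cfsg.Prelude.Def_SylowControl

/-!
# Right conjugation of subgroups and the families `𝓕(S)`
-/

namespace CfsgLib.SylowControl

set_option autoImplicit false

variable {G : Type*} [Group G]

theorem mem_conjSub {g x : G} {X : Subgroup G} :
    x ∈ Cfsg.subgroupConjRight g X ↔ g * x * g⁻¹ ∈ X := by
  simp only [Cfsg.subgroupConjRight, Subgroup.mem_map, MulEquiv.coe_toMonoidHom, MulAut.conj_apply, inv_inv]
  constructor
  · rintro ⟨y, hy, rfl⟩
    simpa [mul_assoc] using hy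
  · intro h
    exact ⟨g * x * g⁻¹, h, by group⟩

theorem conjSub_conjSub (g h : G) (X : Subgroup G) :
    Cfsg.subgroupConjRight g (Cfsg.subgroupConjRight h X) = Cfsg.subgroupConjRight (h * g) X := by
  ext x
  simp only [mem_conjSub, mul_inv_rev, mul_assoc]

theorem conjSub_one (X : Subgroup G) : Cfsg.subgroupConjRight 1 X = X := by
  ext x; simp [mem_conjSub]

theorem conjSub_eq_self_of_mem {g : G} {X : Subgroup G} (h : g ∈ X) :
    Cfsg.subgroupConjRight g X = X := by
  ext x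
  rw [mem_conjSub]
  exact ⟨fun hx => by simpa [mul_assoc] using X.mul_mem (X.mul_mem (X.inv_mem h) hx) h,
    fun hx => X.mul_mem (X.mul_mem h hx) (X.inv_mem h)⟩

theorem conjSub_eq_self_iff {g : G} {X : Subgroup G} :
    Cfsg.subgroupConjRight g X = X ↔ g ∈ Subgroup.normalizer (X : Set G) := by
  rw [Subgroup.mem_normalizer_iff, SetLike.ext_iff]
  simp only [mem_conjSub]
  exact forall_congr' fun x => iff_comm

theorem conjRight_subset_iff {g : G} {A B : Set G} :
    Cfsg.conjRight g A ⊆ B ↔ ∀ a ∈ A, g⁻¹ * a * g ∈ B :=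
  Set.image_subset_iff

theorem exists_sylow_conjSub {p : ℕ} (g : G) (S : Sylow p G) :
    ∃ T : Sylow p G, (T : Subgroup G) = Cfsg.subgroupConjRight g (S : Subgroup G) :=
  ⟨g⁻¹ • S, rfl⟩

theorem exists_eq_conjSub [Finite G] {p : ℕ} [Fact p.Prime] (S T : Sylow p G) :
    ∃ g : G, Cfsg.subgroupConjRight g (S : Subgroup G) = (T : Subgroup G) := by
  obtain ⟨g, rfl⟩ := MulAction.exists_smul_eq G S T
  exact ⟨g⁻¹, by rw [Cfsg.subgroupConjRight, inv_inv]; rfl⟩

theorem mem_sylowMembers_conjSub [Finite G] {p : ℕ} [Fact p.Prime] {𝓕 : Set (Subgroup G)}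
    (h𝓕 : Cfsg.IsNormalSet 𝓕) {S X : Subgroup G} (hX : X ∈ Cfsg.sylowMembers p 𝓕 S) (g : G) :
    Cfsg.subgroupConjRight g X ∈ Cfsg.sylowMembers p 𝓕 (Cfsg.subgroupConjRight g S) := by
  obtain ⟨hXF, P, hP⟩ := hX
  refine ⟨h𝓕 X hXF g, ?_⟩
  have hinj : Function.Injective (MulAut.conj g⁻¹).toMonoidHom := (MulAut.conj g⁻¹).injective
  let e : X ≃* ↥(Cfsg.subgroupConjRight g X) := Subgroup.equivMapOfInjective X _ hinj
  refine ⟨P.mapSurjective (f := e.toMonoidHom) e.surjective, ?_⟩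
  show ((P : Subgroup X).map e.toMonoidHom).map (Cfsg.subgroupConjRight g X).subtype =
    Cfsg.subgroupConjRight g S ⊓ Cfsg.subgroupConjRight g X
  rw [Subgroup.map_map]
  have hcomp : (Cfsg.subgroupConjRight g X).subtype.comp e.toMonoidHom =
      (MulAut.conj g⁻¹).toMonoidHom.comp X.subtype := rfl
  rw [hcomp, ← Subgroup.map_map, hP, Subgroup.map_inf _ _ _ hinj]
  rfl

end CfsgLib.SylowControl
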